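import Groth.Agent.Lib.HilbD.Chart.FrameAt
import Groth.Agent.Lib.PProj.Amb
import Mathlib.LinearAlgebra.Matrix.NonsingularInverse
import Mathlib.LinearAlgebra.Matrix.ToLinearEquiv

/-!
# Coordinates of sections in frames of a finite scheme over opens of the base
-/

set_option autoImplicit false
set_option linter.style.haveILetI false
set_option backward.isDefEq.respectTransparency false

universe u

open CategoryTheory CategoryTheory.Limits AlgebraicGeometry TopologicalSpace Opposite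

namespace Groth.Agent.Lib.HilbProj53

open Groth.Agent.Lib.PProj (rX rX_rX rX_self eq_of_cover isUnit_rX)

variable {Z T : Scheme.{u}} (π : Z ⟶ T) {d : ℕ} {W W' : T.Opens}

/-- A combination with coefficients on the base. -/
noncomputable def comb (v : Fin d → Γ(Z, π ⁻¹ᵁ W)) (r : Fin d → Γ(T, W)) : Γ(Z, π ⁻¹ᵁ W) :=
  ∑ i, π.app W (r i) * v i

/-- The sections `v` form a frame over `W`. -/
def IsFr (v : Fin d → Γ(Z, π ⁻¹ᵁ W)) : Prop := Function.Bijective (comb π v)

theorem rX_app (h : W' ≤ W) (r : Γ(T, W)) :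
    rX (π.preimage_mono h) (π.app W r) = π.app W' (rX h r) := by
  simp only [rX]
  rw [Scheme.Hom.app_eq_appLE, Scheme.Hom.app_eq_appLE]
  show (π.appLE W (π ⁻¹ᵁ W) _ ≫ Z.presheaf.map _) r = (T.presheaf.map _ ≫ π.appLE W' (π ⁻¹ᵁ W') _) r
  rw [Scheme.Hom.appLE_map, Scheme.Hom.map_appLE]

theorem rX_comb (h : W' ≤ W) (v : Fin d → Γ(Z, π ⁻¹ᵁ W)) (r : Fin d → Γ(T, W)) :
    rX (π.preimage_mono h) (comb π v r) =
      comb π (fun i => rX (π.preimage_mono h) (v i)) (fun i => rX h (r i)) := by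
  simp [comb, map_sum, rX_app π h]

variable {π}

/-- The coordinates in a frame. -/
noncomputable def co {v : Fin d → Γ(Z, π ⁻¹ᵁ W)} (h : IsFr π v) (e : Γ(Z, π ⁻¹ᵁ W)) : Fin d → Γ(T, W) :=
  (Equiv.ofBijective _ h).symm e

theorem comb_co {v : Fin d → Γ(Z, π ⁻¹ᵁ W)} (h : IsFr π v) (e : Γ(Z, π ⁻¹ᵁ W)) :
    comb π v (co h e) = e :=
  (Equiv.ofBijective _ h).apply_symm_apply e

theorem co_eq {v : Fin d → Γ(Z, π ⁻¹ᵁ W)} (h : IsFr π v) {e : Γ(Z, π ⁻¹ᵁ W)} {r : Fin d → Γ(T, W)}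
    (hr : comb π v r = e) : co h e = r :=
  h.1 ((comb_co h e).trans hr.symm)

theorem co_sum {v : Fin d → Γ(Z, π ⁻¹ᵁ W)} (h : IsFr π v) {ι : Type*} (s : Finset ι) (a : ι → Γ(T, W))
    (e : ι → Γ(Z, π ⁻¹ᵁ W)) :
    co h (∑ k ∈ s, π.app W (a k) * e k) = ∑ k ∈ s, a k • co h (e k) := by
  refine co_eq h ?_
  conv_rhs => enter [2, k]; rw [← comb_co h (e k)]
  simp only [comb, Finset.sum_apply, Pi.smul_apply, smul_eq_mul, map_sum, map_mul, Finset.sum_mul,
    Finset.mul_sum, mul_assoc]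
  rw [Finset.sum_comm]

theorem co_res {v : Fin d → Γ(Z, π ⁻¹ᵁ W)} (h : IsFr π v) (hle : W' ≤ W)
    (h' : IsFr π fun i => rX (π.preimage_mono hle) (v i)) (e : Γ(Z, π ⁻¹ᵁ W)) :
    co h' (rX (π.preimage_mono hle) e) = fun i => rX hle (co h e i) :=
  co_eq h' (by rw [← rX_comb, comb_co])

/-- The determinant of `w` in the frame. -/
noncomputable def det {v : Fin d → Γ(Z, π ⁻¹ᵁ W)} (h : IsFr π v) (w : Fin d → Γ(Z, π ⁻¹ᵁ W)) : Γ(T, W) :=
  Matrix.det (Matrix.of fun i j => co h (w i) j)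

theorem det_res {v : Fin d → Γ(Z, π ⁻¹ᵁ W)} (h : IsFr π v) (hle : W' ≤ W)
    (h' : IsFr π fun i => rX (π.preimage_mono hle) (v i)) (w : Fin d → Γ(Z, π ⁻¹ᵁ W)) :
    det h' (fun i => rX (π.preimage_mono hle) (w i)) = rX hle (det h w) := by
  rw [det, det, RingHom.map_det]
  congr 1
  ext i j
  exact congrFun (co_res h hle h' (w i)) j

theorem det_self {v : Fin d → Γ(Z, π ⁻¹ᵁ W)} (h : IsFr π v) : det h v = 1 := by
  classical
  rw [det, ← Matrix.det_one (n := Fin d) (R := Γ(T, W))]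
  congr 1
  ext i j
  have : co h (v i) = fun j => if i = j then 1 else 0 := co_eq h (by
    simp [comb, apply_ite (π.app W), ite_mul])
  simp [this, Matrix.one_apply]

theorem co_comb {v : Fin d → Γ(Z, π ⁻¹ᵁ W)} (h : IsFr π v) (w : Fin d → Γ(Z, π ⁻¹ᵁ W))
    (r : Fin d → Γ(T, W)) :
    co h (comb π w r) = Matrix.vecMul r (Matrix.of fun i j => co h (w i) j) := by
  rw [comb, co_sum]
  ext j
  simp [Matrix.vecMul, dotProduct, Finset.sum_apply]

theorem det_mul {v v' : Fin d → Γ(Z, π ⁻¹ᵁ W)} (h : IsFr π v) (h' : IsFr π v')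
    (w : Fin d → Γ(Z, π ⁻¹ᵁ W)) : det h w = det h' w * det h v' := by
  rw [det, det, det, ← Matrix.det_mul]
  congr 1
  ext i j
  have := congrFun (co_comb h v' (co h' (w i))) j
  rw [comb_co] at this
  simp only [Matrix.of_apply, this, Matrix.mul_apply, Matrix.vecMul, dotProduct]

theorem isFr_of_isUnit_det {v : Fin d → Γ(Z, π ⁻¹ᵁ W)} (h : IsFr π v) {w : Fin d → Γ(Z, π ⁻¹ᵁ W)}
    (hu : IsUnit (det h w)) : IsFr π w := by
  have hA : IsUnit (Matrix.of fun i j => co h (w i) j) := (Matrix.isUnit_iff_isUnit_det _).mpr hu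
  have hb : Function.Bijective fun r => Matrix.vecMul r (Matrix.of fun i j => co h (w i) j) :=
    ⟨Matrix.vecMul_injective_of_isUnit hA, Matrix.vecMul_surjective_iff_isUnit.mpr hA⟩
  have e : comb π w = comb π v ∘ fun r => Matrix.vecMul r (Matrix.of fun i j => co h (w i) j) := by
    funext r
    show comb π w r = comb π v (Matrix.vecMul r (Matrix.of fun i j => co h (w i) j))
    rw [← co_comb h w r, comb_co]
  rw [IsFr, e]
  exact h.comp hb

theorem det_update {v : Fin d → Γ(Z, π ⁻¹ᵁ W)} (h : IsFr π v) (i : Fin d) (e : Γ(Z, π ⁻¹ᵁ W)) :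
    det h (Function.update v i e) = co h e i := by
  classical
  have hM : (Matrix.of fun a b => co h (Function.update v i e a) b) =
      (1 : Matrix (Fin d) (Fin d) Γ(T, W)).updateRow i
        (∑ k, co h e k • (1 : Matrix (Fin d) (Fin d) Γ(T, W)) k) := by
    ext a b
    by_cases ha : a = i
    · subst ha
      simp [Matrix.one_apply, Finset.sum_apply]
    · have hv : co h (v a) = fun j => if a = j then 1 else 0 := co_eq h (by
        simp [comb, apply_ite (π.app W), ite_mul])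
      simp [Matrix.updateRow_ne ha, Function.update_of_ne ha, hv, Matrix.one_apply]
  rw [det, hM, Matrix.det_updateRow_sum, Matrix.det_one, smul_eq_mul, mul_one]

theorem det_sum {v : Fin d → Γ(Z, π ⁻¹ᵁ W)} (h : IsFr π v) {N : ℕ} (a : Fin d → Fin N → Γ(T, W))
    (x : Fin N → Γ(Z, π ⁻¹ᵁ W)) :
    det h (fun i => ∑ k, π.app W (a i k) * x k) =
      ∑ K : Fin d → Fin N, (∏ i, a i (K i)) * det h fun i => x (K i) := by
  classical
  let D : MultilinearMap Γ(T, W) (fun _ : Fin d => Fin d → Γ(T, W)) Γ(T, W) :=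
    (Matrix.detRowAlternating (R := Γ(T, W)) (n := Fin d)).toMultilinearMap
  have e : det h (fun i => ∑ k, π.app W (a i k) * x k) = D fun i => ∑ k, a i k • co h (x k) := by
    show Matrix.det _ = Matrix.det _
    congr 1
    ext i j
    show co h (∑ k, π.app W (a i k) * x k) j = _
    rw [co_sum]
  rw [e, D.map_sum]
  refine Finset.sum_congr rfl fun K _ => ?_
  exact D.map_smul_univ _ _

/-- A frame glues. -/
theorem isFr_of_cover {v : Fin d → Γ(Z, π ⁻¹ᵁ W)} {ι : Type u} (B : ι → T.Opens) (hB : ∀ i, B i ≤ W)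
    (hcov : W ≤ ⨆ i, B i)
    (h : ∀ (V : T.Opens) (hV : V ≤ W) (i : ι), V ≤ B i → IsAffineOpen V →
      IsFr π fun k => rX (π.preimage_mono hV) (v k)) : IsFr π v := by
  let J := Σ' (i : ι) (V : T.Opens), V ≤ B i ∧ IsAffineOpen V
  have hJ : ∀ V' : T.Opens, V' ≤ W → V' ≤ ⨆ j : {j : J // j.2.1 ≤ V'}, j.1.2.1 := fun V' hV' x hx => by
    obtain ⟨i, hi⟩ := Opens.mem_iSup.1 (hcov (hV' hx))
    obtain ⟨V, hV, hxV, hle⟩ := exists_isAffineOpen_mem_and_subset (show x ∈ V' ⊓ B i from ⟨hx, hi⟩)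
    exact Opens.mem_iSup.2 ⟨⟨⟨i, V, fun y hy => (hle hy).2, hV⟩, fun y hy => (hle hy).1⟩, hxV⟩
  have hj : ∀ j : J, j.2.1 ≤ W := fun j => j.2.2.1.trans (hB j.1)
  have hfr : ∀ j : J, IsFr π fun k => rX (π.preimage_mono (hj j)) (v k) := fun j =>
    h j.2.1 (hj j) j.1 j.2.2.1 j.2.2.2
  have hinj : ∀ (V' : T.Opens) (hV' : V' ≤ W),
      Function.Injective (comb π fun k => rX (π.preimage_mono hV') (v k)) := fun V' hV' r r' he => by
    funext k
    refine eq_of_cover (fun j => j.2) (hJ V' hV') fun j => ?_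
    have e1 := congrArg (rX (π.preimage_mono j.2)) he
    rw [rX_comb, rX_comb] at e1
    simp only [rX_rX] at e1
    exact congrFun ((hfr j.1).1 e1) k
  refine ⟨?_, fun e => ?_⟩
  · have := hinj W le_rfl
    simpa only [rX_self] using this
  let r : ∀ j : J, Fin d → Γ(T, j.2.1) := fun j => co (hfr j) (rX (π.preimage_mono (hj j)) e)
  have hcompat : ∀ k : Fin d, TopCat.Presheaf.IsCompatible T.sheaf.1 (fun j : J => j.2.1) fun j => r j k :=
    fun k j j' => by
      let V' := j.2.1 ⊓ j'.2.1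
      have hV' : V' ≤ W := inf_le_left.trans (hj j)
      show rX (inf_le_left : V' ≤ j.2.1) (r j k) = rX (inf_le_right : V' ≤ j'.2.1) (r j' k)
      have e1 := congrArg (rX (π.preimage_mono (inf_le_left : V' ≤ j.2.1)))
        (comb_co (hfr j) (rX (π.preimage_mono (hj j)) e))
      have e2 := congrArg (rX (π.preimage_mono (inf_le_right : V' ≤ j'.2.1)))
        (comb_co (hfr j') (rX (π.preimage_mono (hj j')) e))
      rw [rX_comb] at e1 e2
      simp only [rX_rX] at e1 e2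
      exact congrFun (hinj V' hV' (e1.trans e2.symm)) k
  choose g hg using fun k => T.sheaf.existsUnique_gluing' (fun j : J => j.2.1) W
    (fun j => homOfLE (hj j)) (fun x hx => by
      obtain ⟨j, hxj⟩ := Opens.mem_iSup.1 (hJ W le_rfl hx)
      exact Opens.mem_iSup.2 ⟨j.1, hxj⟩) (fun j => r j k) (hcompat k)
  refine ⟨g, eq_of_cover (B := fun j : J => π ⁻¹ᵁ j.2.1) (fun j => π.preimage_mono (hj j))
    (fun z hz => ?_) fun j => ?_⟩
  · obtain ⟨j, hxj⟩ := Opens.mem_iSup.1 (hJ W le_rfl (show π z ∈ W from hz))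
    exact Opens.mem_iSup.2 ⟨j.1, hxj⟩
  · rw [rX_comb]
    refine Eq.trans ?_ (comb_co (hfr j) (rX (π.preimage_mono (hj j)) e))
    congr 1
    funext k
    exact (hg k).1 j

end Groth.Agent.Lib.HilbProj53
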