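import Groth.Agent.Lib.HilbProj53.Coord
import Groth.Agent.Lib.HilbD.Chart.Rep
import Groth.Agent.Lib.PProj.Sys

/-!
# Determinantal coordinates on the Hilbert scheme of points of a finite scheme
-/

set_option autoImplicit false
set_option linter.style.haveILetI false
set_option backward.isDefEq.respectTransparency false

universe u

open CategoryTheory CategoryTheory.Limits AlgebraicGeometry TopologicalSpace Opposite

namespace Groth.Agent.Lib.HilbProj53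

open Groth.Agent.Lib.HilbD Groth.Agent.Lib.HilbD.Chart
open Groth.Agent.Lib.PProj (rX rX_rX rX_self eq_of_cover isUnit_rX Vec piece piece_mono vres lin)

variable {X S : Scheme.{u}} {f : X ⟶ S} {d : ℕ} {H : Over S} (Z : _root_.HilbD.Obj f d H)

/-- The projection of the family. -/
noncomputable abbrev pj : Z.1.subscheme ⟶ H.left := prI Z.1

/-- The map of the family to `X`. -/
noncomputable abbrev tx : Z.1.subscheme ⟶ X := toXI Z.1

theorem tx_comp : tx Z ≫ f = pj Z ≫ H.hom := by simp [tx, pj, pullback.condition]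

theorem le_tx {U : S.Opens} {W : H.left.Opens} (hW : W ≤ H.hom ⁻¹ᵁ U) :
    pj Z ⁻¹ᵁ W ≤ tx Z ⁻¹ᵁ (f ⁻¹ᵁ U) := fun z hz => by
  show (tx Z ≫ f) z ∈ U
  rw [tx_comp]
  exact hW hz

/-- A function on `X` restricted to the family. -/
noncomputable def bz {U : S.Opens} {W : H.left.Opens} (hW : W ≤ H.hom ⁻¹ᵁ U) (y : Γ(X, f ⁻¹ᵁ U)) :
    Γ(Z.1.subscheme, pj Z ⁻¹ᵁ W) :=
  (tx Z).appLE _ _ (le_tx Z hW) y

theorem rX_bz {U U' : S.Opens} (hU : U' ≤ U) {W W' : H.left.Opens} (hle : W' ≤ W) (hW : W ≤ H.hom ⁻¹ᵁ U)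
    (hW' : W' ≤ H.hom ⁻¹ᵁ U') (y : Γ(X, f ⁻¹ᵁ U)) :
    rX ((pj Z).preimage_mono hle) (bz Z hW y) = bz Z hW' (rX (f.preimage_mono hU) y) := by
  simp only [rX, bz]
  show ((tx Z).appLE _ _ _ ≫ Z.1.subscheme.presheaf.map _) y = (X.presheaf.map _ ≫ (tx Z).appLE _ _ _) y
  rw [Scheme.Hom.appLE_map, Scheme.Hom.map_appLE]

theorem rX_bz_self {U : S.Opens} {W W' : H.left.Opens} (hle : W' ≤ W) (hW : W ≤ H.hom ⁻¹ᵁ U)
    (y : Γ(X, f ⁻¹ᵁ U)) :
    rX ((pj Z).preimage_mono hle) (bz Z hW y) = bz Z (hle.trans hW) y := by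
  rw [rX_bz Z (le_refl U) hle hW (hle.trans hW), rX_self]

theorem bz_base {U : S.Opens} {W : H.left.Opens} (hW : W ≤ H.hom ⁻¹ᵁ U) (a : Γ(S, U)) :
    bz Z hW (f.app U a) = (pj Z).app W (H.hom.appLE U W hW a) := by
  simp only [bz]
  show (f.app U ≫ (tx Z).appLE _ _ _) a = (H.hom.appLE U W hW ≫ (pj Z).app W) a
  rw [Scheme.Hom.app_eq_appLE, Scheme.Hom.app_eq_appLE, Scheme.Hom.appLE_comp_appLE,
    Scheme.Hom.appLE_comp_appLE]
  simp only [tx_comp]

theorem isFr_iff {W : H.left.Opens} (v : Fin d → Γ(Z.1.subscheme, pj Z ⁻¹ᵁ W)) :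
    letI := ((pj Z).app W).hom.toAlgebra
    IsFr (pj Z) v ↔ IsFrame Γ(H.left, W) v := by
  letI := ((pj Z).app W).hom.toAlgebra
  have e : comb (pj Z) v = Fintype.linearCombination Γ(H.left, W) v := by
    funext r
    rw [Fintype.linearCombination_apply]
    rfl
  rw [IsFr, IsFrame, e]

theorem le_locus_tx {c : Idx f d} {W : H.left.Opens} (hW : W ≤ locus c Z.1) :
    pj Z ⁻¹ᵁ W ≤ tx Z ⁻¹ᵁ c.U.1 := fun z hz => by
  obtain ⟨V, hV, hzV⟩ := (mem_locus c).1 (hW hz)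
  obtain ⟨e, -⟩ := hV.2.2
  exact e hzV

/-- The frame of a chart over an open of its locus. -/
noncomputable def fv (c : Idx f d) {W : H.left.Opens} (hW : W ≤ locus c Z.1) :
    Fin d → Γ(Z.1.subscheme, pj Z ⁻¹ᵁ W) :=
  fun i => (tx Z).appLE c.U.1 _ (le_locus_tx Z hW) (c.b i)

theorem rX_fv (c : Idx f d) {W W' : H.left.Opens} (hle : W' ≤ W) (hW : W ≤ locus c Z.1) :
    (fun i => rX ((pj Z).preimage_mono hle) (fv Z c hW i)) = fv Z c (hle.trans hW) := by
  funext i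
  simp only [rX, fv]
  show ((tx Z).appLE _ _ _ ≫ Z.1.subscheme.presheaf.map _) (c.b i) = _
  rw [Scheme.Hom.appLE_map]

theorem isFr_fv (c : Idx f d) {W : H.left.Opens} (hW : W ≤ locus c Z.1) : IsFr (pj Z) (fv Z c hW) := by
  haveI : IsFinite (pj Z) := Z.2.1.1
  refine isFr_of_cover (fun j : {V : H.left.Opens // InChart c Z.1 V} => j.1 ⊓ W) (fun _ => inf_le_right)
    (fun x hx => ?_) fun V hV j hVj hVaff => ?_
  · obtain ⟨V, hV, hxV⟩ := (mem_locus c).1 (hW hx)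
    exact Opens.mem_iSup.2 ⟨⟨V, hV⟩, hxV, hx⟩
  · rw [rX_fv Z c hV hW, isFr_iff]
    obtain ⟨e, he⟩ := j.2.2.2.mono j.2.1 hVaff (hVj.trans inf_le_left)
    exact he

theorem inChart_of_isFr (c : Idx f d) {W : H.left.Opens} (hWaff : IsAffineOpen W)
    (hV : W ≤ H.hom ⁻¹ᵁ c.V.1) (hu : pj Z ⁻¹ᵁ W ≤ tx Z ⁻¹ᵁ c.U.1)
    (h : IsFr (pj Z) fun i => (tx Z).appLE c.U.1 _ hu (c.b i)) : InChart c Z.1 W :=
  ⟨hWaff, hV, hu, (isFr_iff Z _).1 h⟩

theorem locus_le (c : Idx f d) : locus c Z.1 ≤ H.hom ⁻¹ᵁ c.V.1 := fun t ht => by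
  obtain ⟨W, hW, htW⟩ := (mem_locus c).1 ht
  exact hW.2.1 htW

/-- The pieces. -/
noncomputable def P : Idx f d → H.left.Opens := fun c => locus c Z.1

/-- The determinantal coordinate on a piece. -/
noncomputable def D (a : Idx f d) (U : S.Opens) (w : Fin d → Γ(X, f ⁻¹ᵁ U)) :
    Γ(H.left, piece H.hom (P Z) a U) :=
  det (isFr_fv Z a (inf_le_left : piece H.hom (P Z) a U ≤ locus a Z.1))
    fun i => bz Z (inf_le_right : piece H.hom (P Z) a U ≤ H.hom ⁻¹ᵁ U) (w i)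

theorem rX_D (a : Idx f d) {U : S.Opens} (w : Fin d → Γ(X, f ⁻¹ᵁ U)) {W : H.left.Opens}
    (h : W ≤ piece H.hom (P Z) a U) :
    rX h (D Z a U w) = det (isFr_fv Z a (h.trans inf_le_left)) fun i => bz Z (h.trans inf_le_right) (w i) := by
  have hf := isFr_fv Z a (h.trans inf_le_left)
  have hf' : IsFr (pj Z) fun i => rX ((pj Z).preimage_mono h)
      (fv Z a (inf_le_left : piece H.hom (P Z) a U ≤ locus a Z.1) i) := by
    rw [rX_fv Z a h inf_le_left]; exact hf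
  rw [D, ← det_res _ h hf']
  congr 1
  · exact rX_fv Z a h inf_le_left
  · funext i
    exact rX_bz_self Z h inf_le_right (w i)

theorem vres_D {U U' : S.Opens} (hU : U' ≤ U) (w : Fin d → Γ(X, f ⁻¹ᵁ U)) :
    vres hU (fun a => D Z a U w) = fun a => D Z a U' fun i => rX (f.preimage_mono hU) (w i) := by
  funext a
  show rX (piece_mono a hU) (D Z a U w) = _
  rw [rX_D]
  unfold D
  congr 1
  funext i
  have := rX_bz Z hU (le_refl (piece H.hom (P Z) a U')) ((piece_mono a hU).trans inf_le_right)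
    inf_le_right (w i)
  rwa [rX_self] at this

theorem D_sum {U : S.Opens} {N : ℕ} (l : Fin d → Fin N → Γ(S, U)) (x : Fin N → Γ(X, f ⁻¹ᵁ U))
    (a : Idx f d) :
    D Z a U (fun i => ∑ k, f.app U (l i k) * x k) =
      ∑ K : Fin d → Fin N, PProj.base H.hom (P Z) a U (∏ i, l i (K i)) * D Z a U fun i => x (K i) := by
  have hW : piece H.hom (P Z) a U ≤ H.hom ⁻¹ᵁ U := inf_le_right
  have e : (fun i => bz Z hW (∑ k, f.app U (l i k) * x k)) =
      fun i => ∑ k, (pj Z).app _ (H.hom.appLE U _ hW (l i k)) * bz Z hW (x k) := by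
    funext i
    simp only [← bz_base Z hW]
    simp only [bz, map_sum, map_mul]
  rw [D, e, det_sum]
  simp only [map_prod]
  rfl

end Groth.Agent.Lib.HilbProj53
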