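import Groth.Agent.Lib.HilbProj53.Data
import Groth.Agent.Lib.PProj.Chart

/-!
# The Hilbert scheme of points of a finite scheme is projective
-/

set_option autoImplicit false
set_option linter.style.haveILetI false
set_option backward.isDefEq.respectTransparency false

universe u

open CategoryTheory CategoryTheory.Limits AlgebraicGeometry TopologicalSpace Opposite

namespace Groth.Agent.Lib.HilbProj53

open Groth.Agent.Lib.HilbD Groth.Agent.Lib.HilbD.Chart
open Groth.Agent.Lib.PProj (rX rX_rX rX_self eq_of_cover isUnit_rX Vec piece piece_mono vres lin)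

variable {X S : Scheme.{u}} {f : X ⟶ S} {d : ℕ} {H : Over S} {Z : _root_.HilbD.Obj f d H}

/-- Generators of `Γ(X, f⁻¹U)` over `Γ(S, U)`. -/
def Gens {U : S.Opens} {N : ℕ} (x : Fin N → Γ(X, f ⁻¹ᵁ U)) : Prop :=
  ∀ y, ∃ a : Fin N → Γ(S, U), y = ∑ k, f.app U (a k) * x k

theorem exists_gens [IsFinite f] {U : S.Opens} (hU : IsAffineOpen U) :
    ∃ (N : ℕ) (x : Fin N → Γ(X, f ⁻¹ᵁ U)), Gens x := by
  letI := (f.app U).hom.toAlgebra
  haveI : Module.Finite Γ(S, U) Γ(X, f ⁻¹ᵁ U) := RingHom.finite_algebraMap.mp (f.finite_app U hU)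
  obtain ⟨N, x, hx⟩ := Module.Finite.exists_fin (R := Γ(S, U)) (M := Γ(X, f ⁻¹ᵁ U))
  refine ⟨N, x, fun y => ?_⟩
  obtain ⟨a, ha⟩ := Submodule.mem_span_range_iff_exists_fun Γ(S, U) |>.1 (hx ▸ Submodule.mem_top (x := y))
  exact ⟨a, ha.symm⟩

theorem gens_res [IsFinite f] {U U' : S.Opens} (hU : IsAffineOpen U) (hU' : IsAffineOpen U') (h : U' ≤ U)
    {N : ℕ} {x : Fin N → Γ(X, f ⁻¹ᵁ U)} (hx : Gens x) :
    Gens fun k => rX (f.preimage_mono h) (x k) := by
  have e : U' ≤ (𝟙 S : S ⟶ S) ⁻¹ᵁ U := h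
  letI := (f.app U).hom.toAlgebra
  letI := (f.app U').hom.toAlgebra
  letI := ((𝟙 S : S ⟶ S).appLE U U' e).hom.toAlgebra
  letI := ((f.app U').hom.comp ((𝟙 S : S ⟶ S).appLE U U' e).hom).toAlgebra
  haveI : IsScalarTower Γ(S, U) Γ(S, U') Γ(X, f ⁻¹ᵁ U') := .of_algebraMap_eq' rfl
  obtain ⟨j, hj, hje⟩ := isBaseChange_appLE (IsPullback.of_id_fst (f := f)) hU hU' e
  have hid : ∀ r : Γ(S, U), (𝟙 S : S ⟶ S).appLE U U' e r = rX h r := fun r => by
    simp [rX, Scheme.Hom.appLE]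
  intro y
  induction y using hj.inductionOn with
  | zero => exact ⟨0, by simp⟩
  | tmul m =>
    obtain ⟨a, rfl⟩ := hx m
    refine ⟨fun k => rX h (a k), ?_⟩
    rw [map_sum]
    refine Finset.sum_congr rfl fun k _ => ?_
    have h1 : f.app U (a k) * x k = a k • x k := rfl
    rw [h1, map_smul, hje, Algebra.smul_def]
    congr 1
  | smul r z hz =>
    obtain ⟨a, rfl⟩ := hz
    refine ⟨fun k => r * a k, ?_⟩
    rw [Finset.smul_sum]
    refine Finset.sum_congr rfl fun k _ => ?_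
    rw [Algebra.smul_def, map_mul, mul_assoc]
    rfl
  | add z w hz hw =>
    obtain ⟨a, rfl⟩ := hz
    obtain ⟨b, rfl⟩ := hw
    exact ⟨a + b, by simp [add_mul, Finset.sum_add_distrib]⟩

variable [IsFinite f]

/-- The chart given by `d` of the generators. -/
noncomputable def cU {U : S.Opens} (hU : IsAffineOpen U) {N : ℕ} (x : Fin N → Γ(X, f ⁻¹ᵁ U))
    (J : Fin d → Fin N) : Idx f d :=
  ⟨⟨U, hU⟩, ⟨f ⁻¹ᵁ U, hU.preimage f⟩, le_rfl, fun i => x (J i)⟩

variable (Z) in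
theorem fv_cU {U : S.Opens} (hU : IsAffineOpen U) {N : ℕ} (x : Fin N → Γ(X, f ⁻¹ᵁ U)) (J : Fin d → Fin N)
    {W : H.left.Opens} (hW : W ≤ locus (cU hU x J) Z.1) (hW' : W ≤ H.hom ⁻¹ᵁ U) :
    fv Z (cU hU x J) hW = fun i => bz Z hW' (x (J i)) := rfl

theorem isUnit_det_of_frames {c c' : Idx f d} {W : H.left.Opens} (h : W ≤ locus c Z.1)
    (h' : W ≤ locus c' Z.1) : IsUnit (det (isFr_fv Z c h) (fv Z c' h')) := by
  refine IsUnit.of_mul_eq_one_right (det (isFr_fv Z c' h') (fv Z c h)) ?_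
  rw [← det_mul, det_self]

theorem L_inf {U : S.Opens} (hU : IsAffineOpen U) {N : ℕ} (x : Fin N → Γ(X, f ⁻¹ᵁ U)) (J : Fin d → Fin N)
    (a : Idx f d) :
    locus (cU hU x J) Z.1 ⊓ P Z a = H.left.basicOpen (D Z a U fun i => x (J i)) := by
  let δ := D Z a U fun i => x (J i)
  refine le_antisymm (fun t ht => ?_) fun t ht => ?_
  · have htp : t ∈ piece H.hom (P Z) a U := ⟨ht.2, locus_le Z (cU hU x J) ht.1⟩
    let W := piece H.hom (P Z) a U ⊓ locus (cU hU x J) Z.1
    have hu : IsUnit (rX (inf_le_left : W ≤ _) δ) := by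
      rw [rX_D]
      have := isUnit_det_of_frames (Z := Z) (c := a) (c' := cU hU x J) (W := W)
        (inf_le_left.trans inf_le_left) inf_le_right
      rwa [fv_cU Z hU x J _ (inf_le_left.trans inf_le_right)] at this
    have hb := H.left.basicOpen_of_isUnit hu
    rw [PProj.basicOpen_rX] at hb
    exact (hb.ge (show t ∈ W from ⟨htp, ht.1⟩)).2
  · have htp : t ∈ piece H.hom (P Z) a U := H.left.basicOpen_le δ ht
    refine ⟨?_, htp.1⟩
    obtain ⟨W, hW, htW, hle⟩ := exists_isAffineOpen_mem_and_subset ht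
    have hle' : W ≤ H.left.basicOpen δ := hle
    have h1 : W ≤ piece H.hom (P Z) a U := hle'.trans (H.left.basicOpen_le δ)
    have hu : IsUnit (rX h1 δ) := isUnit_rX h1 hle'
    rw [rX_D] at hu
    have hfr := isFr_of_isUnit_det _ hu
    exact (mem_locus _).2 ⟨W, inChart_of_isFr Z (cU hU x J) hW (h1.trans inf_le_right)
      (le_tx Z (h1.trans inf_le_right)) hfr, htW⟩

theorem cover {U : S.Opens} (hU : IsAffineOpen U) {N : ℕ} {x : Fin N → Γ(X, f ⁻¹ᵁ U)} (hx : Gens x)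
    (t : H.left) (ht : t ∈ H.hom ⁻¹ᵁ U) : ∃ J : Fin d → Fin N, t ∈ locus (cU hU x J) Z.1 := by
  haveI : IsFinite (pj Z) := Z.2.1.1
  obtain ⟨W, hW, htW, hWle⟩ := exists_isAffineOpen_mem_and_subset ht
  obtain ⟨a, hta, ⟨bM⟩⟩ := exists_nhd_basis (pj Z) Z.2 hW t htW
  let D := H.left.basicOpen a
  have hD : IsAffineOpen D := hW.basicOpen a
  have hDV : D ≤ H.hom ⁻¹ᵁ U := fun y hy => hWle (H.left.basicOpen_le a hy)
  letI := ((pj Z).app D).hom.toAlgebra
  have hsp : Submodule.span Γ(H.left, D) (Set.range fun k => bz Z hDV (x k)) = ⊤ := by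
    rw [eq_top_iff, ← span_eq_top Z hU (hU.preimage f) le_rfl hD hDV (le_tx Z hDV), Submodule.span_le]
    rintro _ ⟨y, rfl⟩
    obtain ⟨c, rfl⟩ := hx y
    show bz Z hDV (∑ k, f.app U (c k) * x k) ∈ _
    have e : bz Z hDV (∑ k, f.app U (c k) * x k) =
        ∑ k, H.hom.appLE U D hDV (c k) • bz Z hDV (x k) := by
      simp only [Algebra.smul_def]
      show _ = ∑ k, (pj Z).app D (H.hom.appLE U D hDV (c k)) * bz Z hDV (x k)
      simp only [← bz_base Z hDV]
      simp only [bz, map_sum, map_mul]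
    rw [e]
    exact Submodule.sum_mem _ fun k _ => Submodule.smul_mem _ _ (Submodule.subset_span ⟨k, rfl⟩)
  obtain ⟨J, hJ⟩ := exists_det_notMem bM (fun k => bz Z hDV (x k)) hsp (hD.primeIdealOf ⟨t, hta⟩).asIdeal
  refine ⟨J, mem_locus_of_det (cU hU x J) Z hD hDV (le_tx Z hDV) bM ?_⟩
  exact (Groth.Agent.Lib.Ideal.EffCartier.mem_basicOpen_iff_notMem_prime hD hta _).mpr hJ

variable (hZ : _root_.HilbD.IsUniversal f d H Z)

include hZ in
/-- A locus is a chart. -/
theorem exists_chart (c : Idx f d) :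
    IsAffineOpen (locus c Z.1) ∧ ∃ (m : c.H ⟶ H) (e : (⊤ : c.H.left.Opens) ≤ m.left ⁻¹ᵁ locus c Z.1),
      _root_.HilbD.pull f m Z.1 = c.fam.1 ∧
        Function.Injective (m.left.appLE (locus c Z.1) ⊤ e) := by
  let O := locus c Z.1
  have hO : ∀ t : (res H O).left, t ∈ locus c (Basic.pullObj f (resι H O) Z).1 := fun t => by
    obtain ⟨W, ⟨hW, hWV, hfr⟩, htW⟩ := (mem_locus c).mp t.2
    obtain ⟨W', hW', htW', hle⟩ := exists_isAffineOpen_mem_and_subset
      (show t ∈ O.ι ⁻¹ᵁ W from htW)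
    exact (mem_locus c).mpr ⟨W', ⟨hW', fun y hy => hWV (hle hy),
      frameAt_pull c (resι H O) Z hfr hW hW' hle⟩, htW'⟩
  obtain ⟨k, hk⟩ := exists_classify_of_cover c (Basic.pullObj f (resι H O) Z) hO
  replace hk : _root_.HilbD.pull f k c.fam.1 = _root_.HilbD.pull f (resι H O) Z.1 := hk
  obtain ⟨m, hm, -⟩ := hZ c.H c.fam
  have hmem : ∀ z, m.left z ∈ O := fun z =>
    mem_locus_of_pull c Z m (𝟙 c.H) ((Basic.pull_id f c.H c.fam.1).trans hm.symm) z
  have hkm : k ≫ m = resι H O := Basic.hom_ext f hZ (by rw [Basic.pull_comp, hm, hk])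
  have hkm' : k.left ≫ m.left = O.ι := congrArg (fun a => CommaMorphism.left a) hkm
  let m' : c.H.left ⟶ (O : Scheme.{u}) :=
    IsOpenImmersion.lift O.ι m.left (by rintro _ ⟨z, rfl⟩; rw [Scheme.Opens.range_ι]; exact hmem z)
  have hm' : m' ≫ O.ι = m.left := IsOpenImmersion.lift_fac _ _ _
  let m'O : c.H ⟶ res H O := Over.homMk m' (by
    show m' ≫ O.ι ≫ H.hom = c.H.hom
    rw [← Category.assoc, hm', Over.w m])
  have hmk : m'O ≫ k = 𝟙 c.H := hom_ext c (by
    rw [Basic.pull_comp, hk, ← Basic.pull_comp, Basic.pull_id,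
      show m'O ≫ resι H O = m from Over.OverMorphism.ext hm', hm])
  have hkm'' : k.left ≫ m' = 𝟙 _ := by
    rw [← cancel_mono O.ι, Category.assoc, hm', hkm', Category.id_comp]
  haveI : IsIso k.left := ⟨m', hkm'', congrArg (fun a => CommaMorphism.left a) hmk⟩
  haveI : IsAffine c.H.left := by show IsAffine (Spec _); infer_instance
  refine ⟨IsAffine.of_isIso (X := (O : Scheme.{u})) k.left, m, fun z _ => hmem z, hm, fun s t hst => ?_⟩
  have hOe : (⊤ : (O : Scheme.{u}).Opens) ≤ O.ι ⁻¹ᵁ O := fun z _ => z.2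
  have h1 : O.ι.appLE O ⊤ hOe s = O.ι.appLE O ⊤ hOe t := by
    have h2 := congrArg (k.left.appLE ⊤ ⊤ le_top) hst
    rw [← CommRingCat.comp_apply, ← CommRingCat.comp_apply, Scheme.Hom.appLE_comp_appLE] at h2
    simp only [hkm'] at h2
    exact h2
  haveI : IsIso (O.ι.app O) := O.ι.isIso_app O (by rw [Scheme.Opens.opensRange_ι])
  have h3 : IsIso (O.ι.appLE O ⊤ hOe) := by
    have e : O.ι ⁻¹ᵁ O = ⊤ := eq_top_iff.2 hOe
    rw [Scheme.Hom.appLE]
    haveI : IsIso (homOfLE hOe) := ⟨homOfLE le_top, rfl, rfl⟩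
    infer_instance
  exact (ConcreteCategory.bijective_of_isIso (O.ι.appLE O ⊤ hOe)).1 h1

include hZ in
/-- The functions on a locus are generated by the base and the coordinates. -/
theorem gen {U : S.Opens} (hU : IsAffineOpen U) {N : ℕ} {x : Fin N → Γ(X, f ⁻¹ᵁ U)} (hx : Gens x)
    (J : Fin d → Fin N) (R0 : Subring Γ(H.left, locus (cU hU x J) Z.1))
    (hA : ∀ a, H.hom.appLE U _ (locus_le Z (cU hU x J)) a ∈ R0)
    (hu : ∀ i k, co (isFr_fv Z (cU hU x J) le_rfl) (bz Z (locus_le Z (cU hU x J)) (x k)) i ∈ R0) :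
    R0 = ⊤ := by
  let c := cU hU x J
  let O := locus c Z.1
  obtain ⟨-, m, em, hm, hinj⟩ := exists_chart hZ c
  let μ := m.left.appLE O ⊤ em
  let γ := (Scheme.ΓSpecIso (CommRingCat.of c.R)).inv
  have hμA : ∀ a, μ (H.hom.appLE U O (locus_le Z c) a) = γ (algebraMap Γ(S, c.V.1) c.R a) := fun a => by
    have e1 : (⊤ : c.H.left.Opens) ≤ c.H.hom ⁻¹ᵁ U := fun z _ => by
      show c.V.2.fromSpec (Spec.map (CommRingCat.ofHom (algebraMap Γ(S, c.V.1) c.R)) z) ∈ c.V.1
      rw [← SetLike.mem_coe, ← c.V.2.range_fromSpec]; exact ⟨_, rfl⟩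
    have h1 := algebraMap_appLE c (T := c.H) (𝟙 c.H) ⊤ e1 a
    have h2 : μ (H.hom.appLE U O (locus_le Z c) a) = c.H.hom.appLE U ⊤ e1 a := by
      show (H.hom.appLE U O _ ≫ m.left.appLE O ⊤ em) a = _
      rw [Scheme.Hom.appLE_comp_appLE]
      simp only [Over.w m]
    refine h2.trans (h1.symm.trans ?_)
    simp [Scheme.Hom.appLE]
    rfl
  have hμ : ∀ (y : Γ(X, f ⁻¹ᵁ U)) (i : Fin d),
      μ (co (isFr_fv Z c le_rfl) (bz Z (locus_le Z c) y) i) = γ (c.coeff y i) := by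
    intro y
    obtain ⟨g', sq, hg⟩ := pull_map_data m Z.1
    have hc : c.emb.toImage ≫ c.emb.ker.subschemeι = c.emb := c.emb.toImage_imageι
    have key : ∀ (I : (PicF.XT f c.H).IdealSheafData), I = c.fam.1 → ∀ (g : I.subscheme ⟶ Z.1.subscheme),
        g ≫ prI Z.1 = prI I ≫ m.left → g ≫ toXI Z.1 = toXI I →
        ∃ l : c.Zc ⟶ Z.1.subscheme, l ≫ pj Z = c.pr ≫ m.left ∧ l ≫ tx Z = c.toX := by
      rintro I rfl g hg1 hg2
      refine ⟨c.emb.toImage ≫ g, ?_, ?_⟩
      · rw [Category.assoc, hg1, ← Category.assoc]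
        congr 1
        exact (Category.assoc _ _ _).symm.trans ((congrArg (· ≫ PicF.XTproj f c.H) hc).trans c.emb_proj)
      · rw [Category.assoc, hg2]
        exact (Category.assoc _ _ _).symm.trans ((congrArg (· ≫ pullback.fst f c.H.hom) hc).trans c.emb_fst)
    obtain ⟨l, hl1, hl2⟩ := key _ hm g' sq.w hg
    obtain ⟨ep, hep⟩ := frameAt_toX_eq_sum c y
    have el : c.pr ⁻¹ᵁ ⊤ ≤ l ⁻¹ᵁ (pj Z ⁻¹ᵁ O) := fun z _ => by
      show (l ≫ pj Z) z ∈ O
      rw [hl1]
      exact em trivial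
    have h4 := congrArg (l.appLE _ _ el) (comb_co (isFr_fv Z c le_rfl) (bz Z (locus_le Z c) y))
    have h5 : ∀ r, l.appLE _ _ el ((pj Z).app O r) = c.pr.app ⊤ (μ r) := fun r => by
      show ((pj Z).app O ≫ l.appLE _ _ el) r = (m.left.appLE O ⊤ em ≫ c.pr.app ⊤) r
      rw [Scheme.Hom.app_eq_appLE, Scheme.Hom.app_eq_appLE, Scheme.Hom.appLE_comp_appLE,
        Scheme.Hom.appLE_comp_appLE]
      simp only [hl1]
    have h6 : ∀ w : Γ(X, c.U.1), l.appLE _ _ el ((tx Z).appLE c.U.1 (pj Z ⁻¹ᵁ O) (le_locus_tx Z le_rfl) w) =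
        c.toX.appLE c.U.1 (c.pr ⁻¹ᵁ ⊤) ep w := fun w => by
      rw [← CommRingCat.comp_apply, Scheme.Hom.appLE_comp_appLE]
      simp only [hl2]
    rw [comb, map_sum] at h4
    simp only [map_mul, h5] at h4
    obtain ⟨e', hfr⟩ := c.frameAt_pr
    letI := (c.pr.app ⊤).hom.toAlgebra
    refine congrFun (hfr.1 (a₁ := fun i => μ (co (isFr_fv Z c le_rfl) (bz Z (locus_le Z c) y) i))
      (a₂ := fun i => γ (c.coeff y i)) ?_)
    simp only [Fintype.linearCombination_apply, Algebra.smul_def]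
    refine Eq.trans ?_ ((h4.trans (h6 y)).trans hep)
    refine Finset.sum_congr rfl fun i _ => ?_
    rw [h5]
    exact congrArg (c.pr.app ⊤ (μ (co (isFr_fv Z c le_rfl) (bz Z (locus_le Z c) y) i)) * ·)
      (h6 (c.b i)).symm
  let R1 := R0.map μ.hom
  suffices hall : ∀ r : c.R, γ r ∈ R1 by
    refine eq_top_iff.2 fun s _ => ?_
    obtain ⟨r, hr⟩ := (ConcreteCategory.bijective_of_isIso γ).2 (μ s)
    obtain ⟨s', hs', he⟩ := hall r
    exact hinj (he.trans hr) ▸ hs'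
  letI := c.alg
  have hlin : ∀ y i, γ (c.coeff y i) ∈ R1 := fun y i => by
    obtain ⟨a, rfl⟩ := hx y
    let a' : Fin N → Γ(S, c.V.1) := a
    let x' : Fin N → Γ(X, c.U.1) := x
    have e : (∑ k, f.app U (a k) * x k : Γ(X, c.U.1)) = ∑ k, a' k • x' k := by
      refine Finset.sum_congr rfl fun k _ => ?_
      show f.app U (a k) * x k = f.appLE U (f ⁻¹ᵁ U) le_rfl (a k) * x k
      rw [Scheme.Hom.app_eq_appLE]
    show γ (Chart.coeff Γ(S, c.V.1) c.b _ i) ∈ R1
    rw [show Chart.coeff Γ(S, c.V.1) c.b _ i = Chart.coeffₗ Γ(S, c.V.1) c.b _ i from rfl, e,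
      map_sum, Finset.sum_apply, map_sum]
    refine sum_mem fun k _ => ?_
    rw [map_smul, Pi.smul_apply, Algebra.smul_def, map_mul]
    refine mul_mem ⟨_, hA (a k), hμA (a k)⟩ ⟨_, hu i k, hμ (x k) i⟩
  intro r
  obtain ⟨p, rfl⟩ := Ideal.Quotient.mkₐ_surjective Γ(S, c.V.1) (Ideal.span (Chart.rels Γ(S, c.V.1) c.b)) r
  induction p using MvPolynomial.induction_on with
  | C a =>
    refine ⟨_, hA a, (hμA a).trans ?_⟩
    rfl
  | add p q hp hq => rw [map_add, map_add]; exact add_mem hp hq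
  | mul_X p q hp => rw [map_mul, map_mul]; exact mul_mem hp (hlin q.1 q.2)

/-- The coordinate system over an affine open. -/
noncomputable def sysOf {U : S.Opens} (hU : IsAffineOpen U) {N : ℕ} (x : Fin N → Γ(X, f ⁻¹ᵁ U))
    (hx : Gens x) : PProj.Sys H.hom (P Z) U :=
  let E : Fin (Fintype.card (Fin d → Fin N)) ≃ (Fin d → Fin N) := (Fintype.equivFin _).symm
  { n := Fintype.card (Fin d → Fin N)
    c := fun j a => D Z a U fun i => x (E j i)
    L := fun j => locus (cU hU x (E j)) Z.1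
    L_le := fun j => locus_le Z (cU hU x (E j))
    affine := fun j => (exists_chart hZ _).1
    cover := fun t ht => by
      obtain ⟨J, hJ⟩ := cover (Z := Z) hU hx t ht
      exact Opens.mem_iSup.2 ⟨E.symm J, by rw [E.apply_symm_apply]; exact hJ⟩
    L_inf := fun j a => L_inf hU x (E j) a
    u := fun j k => det (isFr_fv Z (cU hU x (E j)) le_rfl)
      fun i => bz Z (locus_le Z (cU hU x (E j))) (x (E k i))
    rel := fun j k a => by
      let W := locus (cU hU x (E j)) Z.1 ⊓ P Z a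
      have hW1 : W ≤ locus (cU hU x (E j)) Z.1 := inf_le_left
      have hWU : W ≤ H.hom ⁻¹ᵁ U := hW1.trans (locus_le Z (cU hU x (E j)))
      have hfr : IsFr (pj Z) fun i => rX ((pj Z).preimage_mono hW1)
          (fv Z (cU hU x (E j)) (le_refl (locus (cU hU x (E j)) Z.1)) i) := by
        rw [rX_fv Z _ hW1 le_rfl]; exact isFr_fv Z _ hW1
      rw [rX_D, rX_D, ← det_res _ hW1 hfr,
        det_mul (isFr_fv Z a (inf_le_right : W ≤ locus a Z.1)) (isFr_fv Z (cU hU x (E j)) hW1)]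
      congr 1
      congr 1
      · exact (rX_fv Z _ hW1 le_rfl).symm
      · funext i
        exact (rX_bz_self Z hW1 (locus_le Z (cU hU x (E j))) (x (E k i))).symm
    gen := fun j => by
      classical
      refine gen hZ hU hx (E j) _ (fun a => Subring.subset_closure (Or.inl ⟨a, rfl⟩)) fun i k => ?_
      refine Subring.subset_closure (Or.inr ⟨E.symm (Function.update (E j) i k), ?_⟩)
      show det _ _ = _
      rw [← det_update (isFr_fv Z (cU hU x (E j)) le_rfl) i]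
      congr 1
      funext l
      rw [E.apply_symm_apply]
      by_cases hl : l = i
      · subst hl; simp
      · simp [Function.update_of_ne hl]; rfl }

include hZ in
theorem isProjective : RelProj.IsProjective H.hom := by
  classical
  choose N x hx using fun V : S.affineOpens => exists_gens (f := f) V.2
  refine PProj.PData.isProjective (D := {
    I := Idx f d
    P := P Z
    P_cover := fun t => exists_mem_locus (fun s y hy => by
      obtain ⟨V, hV, hsV, -⟩ :=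
        exists_isAffineOpen_mem_and_subset (show s ∈ (⊤ : S.Opens) from trivial)
      exact ⟨f ⁻¹ᵁ V, hV.preimage f, fun i => by show f (y i) ∈ V; rw [hy i]; exact hsV⟩) Z t
    J := S.affineOpens
    U := fun V => V.1
    affine := fun V => V.2
    cover := fun s => by
      obtain ⟨V, hV, hsV, -⟩ :=
        exists_isAffineOpen_mem_and_subset (show s ∈ (⊤ : S.Opens) from trivial)
      exact ⟨⟨V, hV⟩, hsV⟩
    sys := fun V => sysOf hZ V.2 (x V) (hx V)
    compat := fun β γ j y hy hy' => ?_ })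
  obtain ⟨V, hV, hyV, hle⟩ := exists_isAffineOpen_mem_and_subset (show y ∈ β.1 ⊓ γ.1 from ⟨hy, hy'⟩)
  have hβ : V ≤ β.1 := fun z hz => (hle hz).1
  have hγ : V ≤ γ.1 := fun z hz => (hle hz).2
  let Eγ : Fin (Fintype.card (Fin d → Fin (N γ))) ≃ (Fin d → Fin (N γ)) := (Fintype.equivFin _).symm
  let Eβ : Fin (Fintype.card (Fin d → Fin (N β))) ≃ (Fin d → Fin (N β)) := (Fintype.equivFin _).symm
  choose a ha using fun i => gens_res β.2 hV hβ (hx β) (rX (f.preimage_mono hγ) (x γ (Eγ j i)))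
  refine ⟨V, hβ, hγ, hyV, fun k => ∏ i, a i (Eβ k i), ?_⟩
  show vres hγ (fun b => D Z b γ.1 fun i => x γ (Eγ j i)) = _
  rw [vres_D]
  funext b
  simp only [ha]
  rw [D_sum]
  refine (Fintype.sum_equiv Eβ _ _ fun k => ?_).symm
  show PProj.base H.hom (P Z) b V _ * vres hβ (fun b => D Z b β.1 fun i => x β (Eβ k i)) b = _
  rw [vres_D]

end Groth.Agent.Lib.HilbProj53
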